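import Cfsg.Agent.Lib.Recog.SporBound.Sound
import Cfsg.Agent.Lib.Recog.SporBound.HeD.Tree0
import Cfsg.Agent.Lib.Recog.SporBound.HeD.Tree1
import Cfsg.Agent.Lib.Recog.SporBound.HeD.Tree2
import Cfsg.Agent.Lib.Recog.SporBound.HeD.Tree3

set_option autoImplicit false
set_option maxRecDepth 20000

/-! Generated closure certificate: He, <a,b,c,d,e> over <a> (owner: lead). -/

namespace CfsgLib.Recog.SporBound.HeD
open CfsgLib.Recog.SporBound

noncomputable def factTree : Q (ℕ) := (.node (.node ft10 ft21 ft31 ft41) (.node ft52 ft62 ft72 ft82) (.node ft93 ft103 ft113 ft123) (.node ft134 ft144 ft154 ft164))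
noncomputable def nodeTree : Q (ℕ) := (.node ct15 ct31 ct47 ct63)
noncomputable def stepTree : Q (List ℕ) := (.node (.node st12 st24 st36 st48) (.node st61 st73 st85 st97) (.node st110 st122 st134 st146) (.node st158 st170 st182 st194))
noncomputable def finalTree : Q (List ℕ) := (.node (.node (.node et10 et20 et30 et40) (.node et51 et61 et71 et81) (.node et92 et102 et112 et122) (.node et133 et143 et153 et163)) (.node (.node et174 et184 et194 et204) (.node et215 et225 et235 et245) (.node et256 et266 et276 et286) (.node et297 et307 et317 et327)) (.node (.node et338 et348 et358 et368) (.node et379 et389 et399 et409) (.node et420 et430 et440 et450) (.node et461 et471 et481 et491)) (.node (.node et502 et512 et522 et532) (.node et543 et553 et563 et573) (.node et584 et594 et604 et614) (.node et624 et634 et644 et654)))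

/-- The certificate. -/
noncomputable def cert : Cert where
  n := 7560
  nd := 7625
  nf := 19061
  kl := [0, 1, 2, 3, 4]
  facts := factTree
  cn := nodeTree
  steps := stepTree
  finals := finalTree
  rels := [[0, 0], [1, 1], [2, 2], [3, 3], [4, 4], [0, 1, 0, 1, 0, 1, 0, 1], [0, 2, 0, 2], [0, 3, 0, 3], [0, 4, 0, 4], [1, 2, 1, 2, 1, 2], [1, 3, 1, 3], [1, 4, 1, 4], [2, 3, 2, 3, 2, 3, 2, 3, 2, 3, 2, 3, 2, 3, 2, 3, 2, 3, 2, 3], [2, 4, 2, 4], [3, 4, 3, 4, 3, 4], [4, 2, 1, 0, 2, 1, 0, 2, 1, 0], [0, 3, 2, 3, 2, 3, 2, 3, 2, 3, 2]]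
  subs := [[0]]

/-- Chains of the traced words. -/
noncomputable def closers : List ℕ := [0x30000d000220004a0008b01ecf01f850215e0023d00165000d6000770003e0001b00009000010001000000]

end CfsgLib.Recog.SporBound.HeD
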